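import Cfsg.Agent.Lib.InvChar.HeRec.Completion
import Cfsg.Agent.Lib.KnownA.J4.Perms

/-!
# The six permutations on 24 points generate a conjugate of `M24`
-/

set_option autoImplicit false
set_option maxRecDepth 100000

namespace CfsgLib.InvChar.HeRec.TriM

open CfsgLib.InvChar.Coset CfsgLib.Golay Cfsg

/-- The numbers of the Golay points of the 24 points. -/
def sig : List ℕ := [0, 1, 2, 3, 4, 7, 12, 10, 5, 23, 17, 14, 8, 15, 16, 19, 22, 20, 6, 18, 9, 21, 11, 13]

/-- The codes of the six permutations on the Golay points. -/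
def mG : List ℕ := [320082436790076063084281086149200928, 423714047155142166985947340897493220, 433096681352956934827437021226026608, 688817476793747168440368696661253152, 12429617551820893990160630100310199, 966638849400475295351646046562846721]

/-- The first generator of `M24` as a word in the six permutations. -/
def xW : List ℕ := [1, 3, 1, 5, 3, 2, 3, 4, 3, 5, 1, 2]

/-- The second generator of `M24` as a word in the six permutations. -/
def yW : List ℕ := [0, 1, 3, 2, 5, 2, 5, 2, 5, 3, 1, 5]

theorem sig_ok : (∀ i < 24, sig.getD i 0 < 24) ∧ ∀ j < 24, ∃ i < 24, sig.getD i 0 = j := by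
  decide +kernel

/-- The point of a number. -/
noncomputable def pMap (i : Fin 24) : GolayPt := pt (sig.getD i 0)

theorem pMap_bijective : Function.Bijective pMap := by
  have hs : Function.Surjective pMap := fun p => by
    obtain ⟨i, hi, e⟩ := sig_ok.2 (idx p) (idx_lt p)
    exact ⟨⟨i, hi⟩, by rw [pMap, e, pt_idx]⟩
  refine (Nat.bijective_iff_surjective_and_card pMap).2 ⟨hs, ?_⟩
  simp [GolayPt, Nat.card_eq_fintype_card]

/-- The relabelling. -/
noncomputable def pEquiv : Fin 24 ≃ GolayPt := Equiv.ofBijective pMap pMap_bijective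

/-- The relabelled permutations. -/
noncomputable def mHom : Equiv.Perm (Fin 24) →* Equiv.Perm GolayPt :=
  pEquiv.permCongrHom.toMonoidHom

theorem mHom_injective : Function.Injective mHom := pEquiv.permCongrHom.injective

theorem mHom_apply (σ : Equiv.Perm (Fin 24)) (i : Fin 24) :
    mHom σ (pt (sig.getD i 0)) = pt (sig.getD (σ i) 0) := by
  show pEquiv (σ (pEquiv.symm (pMap i))) = pMap (σ i)
  rw [show pMap i = pEquiv i from rfl, Equiv.symm_apply_apply]
  rfl

theorem mHom_eq_of_img {σ : Equiv.Perm (Fin 24)} {g : ℕ} (hv : valid g = true)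
    (h : ∀ i : Fin 24, img g (sig.getD i 0) = sig.getD (σ i) 0) : mHom σ = permOf g := by
  refine Equiv.ext fun p => ?_
  obtain ⟨i, rfl⟩ := pMap_bijective.2 p
  rw [permOf_apply hv, pMap, mHom_apply, idx_pt (sig_ok.1 i i.2), h i]

theorem mG_ok : ∀ k < 6, inM24 (mG.getD k 0) = true ∧ ∀ i < 24,
    img (mG.getD k 0) (sig.getD i 0) = sig.getD ((mPerms.getD k []).getD i 0) 0 := by
  decide +kernel

theorem mHom_mPerm_mem {k : ℕ} (hk : k < 6) : mHom (mPerm k) ∈ M24 := by
  obtain ⟨h1, h2⟩ := mG_ok k hk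
  rw [mHom_eq_of_img (inM24_valid h1) fun i => by rw [h2 i i.2, mPerm_apply hk]]
  exact inM24_mem h1

theorem xy_ok : (∀ x ∈ xW ++ yW, x < 6) ∧
    valid 500295235739373702556154252836907729 = true ∧ valid 435711300094471009183540432176646656 = true ∧
    (∀ i < 24, img 500295235739373702556154252836907729 (sig.getD i 0) = sig.getD (mWord xW i) 0 ∧
      img 435711300094471009183540432176646656 (sig.getD i 0) = sig.getD (mWord yW i) 0) := by
  decide +kernel

/-- The group of the six permutations. -/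
noncomputable def mGroup : Subgroup (Equiv.Perm (Fin 24)) := Subgroup.closure (mPerm '' Set.Iio 6)

theorem wprod_mem_mGroup {w : List ℕ} (hw : ∀ x ∈ w, x < 6) : wprod mPerm w ∈ mGroup :=
  list_prod_mem fun z hz => by
    obtain ⟨x, hx, rfl⟩ := List.mem_map.1 hz
    exact Subgroup.subset_closure ⟨x, hw x hx, rfl⟩

theorem map_mGroup : mGroup.map mHom = M24 := by
  refine le_antisymm ?_ ?_
  · rw [mGroup, MonoidHom.map_closure, Subgroup.closure_le]
    rintro _ ⟨_, ⟨k, hk, rfl⟩, rfl⟩
    exact mHom_mPerm_mem hk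
  · obtain ⟨hw, v1, v2, him⟩ := xy_ok
    rw [← KnownA.J4M24.closure_perm, Subgroup.closure_le]
    rintro _ (rfl | rfl)
    · refine ⟨_, wprod_mem_mGroup fun x hx => hw x (List.mem_append_left _ hx), ?_⟩
      rw [← KnownA.J4M24.permOf_px]
      exact mHom_eq_of_img v1 fun i => by
        rw [(him i i.2).1, wprod_mPerm_apply _ fun x hx => hw x (List.mem_append_left _ hx)]
    · refine ⟨_, wprod_mem_mGroup fun x hx => hw x (List.mem_append_right _ hx), ?_⟩
      rw [← KnownA.J4M24.permOf_py]
      exact mHom_eq_of_img v2 fun i => by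
        rw [(him i i.2).2, wprod_mPerm_apply _ fun x hx => hw x (List.mem_append_right _ hx)]

/-- The group of the six permutations is `M24`. -/
noncomputable def mGroupEquiv : mGroup ≃* M24 :=
  (mGroup.equivMapOfInjective mHom mHom_injective).trans (MulEquiv.subgroupCongr map_mGroup)

theorem base_ok : chainOK (([23, 0, 1, 2, 3, 4, 5].map (Nat.shiftLeft 1)).reverse) [] chainM24Fin = true ∧
    ∀ b ∈ [23, 0, 1, 2, 3, 4, 5], b < 24 ∧ ∃ i < 16, sig.getD i 0 = b := by
  decide +kernel

/-- An element of the group fixing the first 16 points is trivial. -/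
theorem eq_one_of_fix_sixteen {σ : Equiv.Perm (Fin 24)} (hσ : σ ∈ mGroup)
    (h : ∀ i : Fin 24, (i : ℕ) < 16 → σ i = i) : σ = 1 := by
  obtain ⟨hc, hb⟩ := base_ok
  have hbot : Nat.card (fixMasks (([23, 0, 1, 2, 3, 4, 5].map (Nat.shiftLeft 1)).reverse)) = 1 :=
    (card_fixMasks hc).trans rfl
  have hmem : mHom σ ∈ fixMasks (([23, 0, 1, 2, 3, 4, 5].map (Nat.shiftLeft 1)).reverse) := by
    refine ⟨map_mGroup ▸ Subgroup.mem_map_of_mem _ hσ, fun A hA => ?_⟩
    obtain ⟨b, hbm, rfl⟩ := List.mem_map.1 (List.mem_reverse.1 hA)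
    obtain ⟨hb24, i, hi, hib⟩ := hb b hbm
    have e : mHom σ (pt b) = pt b := by
      rw [← hib]
      exact (mHom_apply σ ⟨i, by omega⟩).trans (by rw [h ⟨i, by omega⟩ hi])
    have := (smul_mset_bit (mHom σ) hb24 (q := pt b)).2 e
    rwa [idx_pt hb24] at this
  rw [Subgroup.card_eq_one] at hbot
  exact mHom_injective ((Subgroup.mem_bot.1 (hbot ▸ hmem)).trans (map_one mHom).symm)

end CfsgLib.InvChar.HeRec.TriM
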