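import Cfsg.Agent.Lib.InvChar.HeRec.FusionY
import Cfsg.Agent.Lib.InvChar.HeRec.Trichotomy.M24.Ident
import Cfsg.Agent.Lib.InvChar.HeRec.Trichotomy.M24.CertOne
import Cfsg.Agent.Lib.InvChar.HeRec.Trichotomy.M24.CertTwo
import Cfsg.Agent.Lib.InvChar.HeRec.Trichotomy.M24.CertThree
import Cfsg.Agent.Lib.InvChar.HeRec.Trichotomy.M24.CertTable

/-!
# A frame and a swap with the triangle values of the Mathieu pattern generate `M24`

Short relators of the permutation model are derived in the product with it; with them the cosets of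
the five letters close at 11385, so the graph has the order of `M24`.
-/

set_option autoImplicit false
set_option maxRecDepth 100000
set_option linter.unusedSectionVars false
set_option linter.unusedVariables false
set_option linter.style.haveILetI false

namespace CfsgLib.InvChar.HeRec.TriM

open CfsgLib.InvChar.Coset Cfsg Cfsg.Spor

theorem one_ok : (CertOne.rels.all fun r => okRel (baseRels 0 2 1) r && mChk r) = true ∧
    (CertOne.words.all fun r => mChk r) = true := by
  decide +kernel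

theorem two_ok : (CertTwo.rels.all fun r =>
      (CertOne.words.any (leq r) || okRel (baseRels 0 2 1) r) && mChk r) = true ∧
    (CertTwo.words.all fun r => mChk r) = true := by
  decide +kernel

theorem three_ok : (CertThree.rels.all fun r =>
      ((CertOne.words ++ CertTwo.words).any (leq r) || okRel (baseRels 0 2 1) r) && mChk r) = true ∧
    (CertThree.words.all fun r => mChk r) = true := by
  decide +kernel

theorem table_ok : (CertTable.rels.all fun r =>
      ((CertOne.words ++ CertTwo.words ++ CertThree.words).any (leq r) || okRel (baseRels 0 2 1) r) &&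
        (mChk r && r.all fun x => decide (x < 6))) = true := by
  decide +kernel

variable {G : Type*} [Group G] [Finite G] {t : G} {ψ : ℕ → G} {n : G}

theorem pair_letters (hψ : IsFrame t ψ) {x : ℕ} (hx : x < 5) :
    (gl ψ n x, mPerm x) ∈ pairM ψ := by
  rw [gl_lt ψ n hx]
  exact Subgroup.subset_closure ⟨⟨x, hx⟩, rfl⟩

theorem derived_one (hψ : IsFrame t ψ) (hn : n * n = 1)
    (hb : ∀ r ∈ baseRels 0 2 1, wprod (gl ψ n) r = 1) :
    ∀ w ∈ CertOne.words ++ CertTwo.words ++ CertThree.words, wprod (gl ψ n) w = 1 := by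
  have base : ∀ {r : List ℕ} {W : List (List ℕ)}, (∀ w ∈ W, wprod (gl ψ n) w = 1) →
      ((W.any (leq r) || okRel (baseRels 0 2 1) r) && mChk r) = true → wprod (gl ψ n) r = 1 := by
    intro r W hW h
    simp only [Bool.and_eq_true, Bool.or_eq_true, List.any_eq_true] at h
    rcases h.1 with ⟨w, hw, he⟩ | he
    · rw [eq_of_leq _ _ he]; exact hW w hw
    · exact okRel_sound hψ hn hb he
  have step : ∀ {R W : List (List ℕ)},
      (∀ (s : ℕ → G × Equiv.Perm (Fin 24)), (∀ x, s x * s x = 1) →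
        ∀ H : Subgroup (G × Equiv.Perm (Fin 24)), (∀ r ∈ R, wprod s r = 1) → (∀ x < 5, s x ∈ H) →
          ∀ w ∈ W, wprod s w ∈ H) →
      (∀ r ∈ R, wprod (gl ψ n) r = 1) → (R.all fun r => mChk r) = true →
      (W.all fun r => mChk r) = true → ∀ w ∈ W, wprod (gl ψ n) w = 1 := by
    intro R W hs hG hR hW w hw
    exact derive_one (gl_mul_self hψ hn) mPerm_mul_self (fun g => eq_one_of_mem_pairM hψ)
      (fun x hx => pair_letters hψ hx) (fun s h1 H h2 h3 => hs s h1 H h2 h3 w hw) hG
      (fun r hr => wprod_mPerm_eq_one (List.all_eq_true.1 hR r hr))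
      (wprod_mPerm_eq_one (List.all_eq_true.1 hW w hw))
  have hmc : ∀ {R : List (List ℕ)} {f : List ℕ → Bool}, (R.all fun r => f r && mChk r) = true →
      (R.all fun r => mChk r) = true := fun {R f} h => List.all_eq_true.2 fun r hr =>
    (Bool.and_eq_true _ _ ▸ List.all_eq_true.1 h r hr : _ ∧ _).2
  obtain ⟨a1, b1⟩ := one_ok
  obtain ⟨a2, b2⟩ := two_ok
  obtain ⟨a3, b3⟩ := three_ok
  have w1 : ∀ w ∈ CertOne.words, wprod (gl ψ n) w = 1 := by
    refine step CertOne.sound (fun r hr => okRel_sound hψ hn hb ?_) (hmc a1) b1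
    have := List.all_eq_true.1 a1 r hr
    rw [Bool.and_eq_true] at this
    exact this.1
  have w2 : ∀ w ∈ CertTwo.words, wprod (gl ψ n) w = 1 :=
    step CertTwo.sound (fun r hr => base w1 (List.all_eq_true.1 a2 r hr)) (hmc a2) b2
  have w12 : ∀ w ∈ CertOne.words ++ CertTwo.words, wprod (gl ψ n) w = 1 :=
    fun w hw => (List.mem_append.1 hw).elim (w1 w) (w2 w)
  have w3 : ∀ w ∈ CertThree.words, wprod (gl ψ n) w = 1 :=
    step CertThree.sound (fun r hr => base w12 (List.all_eq_true.1 a3 r hr)) (hmc a3) b3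
  exact fun w hw => (List.mem_append.1 hw).elim (w12 w) (w3 w)

/-- The letters and the swap with their permutations. -/
noncomputable def pr (ψ : ℕ → G) (n : G) (x : ℕ) : G × Equiv.Perm (Fin 24) := (gl ψ n x, mPerm x)

/-- The graph on the six generators. -/
noncomputable def graph (ψ : ℕ → G) (n : G) : Subgroup (G × Equiv.Perm (Fin 24)) :=
  Subgroup.closure (pr ψ n '' Set.Iio 6)

theorem pairM_le (hψ : IsFrame t ψ) : pairM ψ ≤ graph ψ n := by
  rw [pairM, Subgroup.closure_le]
  rintro _ ⟨i, rfl⟩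
  exact Subgroup.subset_closure ⟨i, Set.mem_Iio.2 (by omega), by simp [pr, gl_lt ψ n i.2]⟩

theorem card_pairM_le (hψ : IsFrame t ψ) : Nat.card (pairM ψ) ≤ 21504 := by
  have hperm : ∀ p ∈ pairM ψ, p.2 ∈ mGroup := by
    intro p hp
    have h : pairM ψ ≤ mGroup.comap (MonoidHom.snd G (Equiv.Perm (Fin 24))) := by
      rw [pairM, Subgroup.closure_le]
      rintro _ ⟨i, rfl⟩
      exact Subgroup.subset_closure ⟨i, Set.mem_Iio.2 (by omega), rfl⟩
    exact h hp
  have hC : ∀ p ∈ pairM ψ, p.1 ∈ Subgroup.centralizer ({t} : Set G) := fun p hp => by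
    obtain ⟨x, hx, e, -⟩ := pairM_code hψ hp
    exact (hψ.mem_iff _).2 ⟨x, hx, e.symm⟩
  rw [← Fus.card_cent hψ]
  refine Nat.card_le_card_of_injective (fun p : pairM ψ =>
    (⟨(p : G × Equiv.Perm (Fin 24)).1, hC p p.2⟩ : Subgroup.centralizer ({t} : Set G))) ?_
  intro p q h
  have h1 : (p : G × Equiv.Perm (Fin 24)).1 = (q : G × Equiv.Perm (Fin 24)).1 := congrArg Subtype.val h
  have hm : (p : G × Equiv.Perm (Fin 24))⁻¹ * q ∈ pairM ψ := mul_mem (inv_mem p.2) q.2
  obtain ⟨x, hx, e, hact⟩ := pairM_code hψ hm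
  rw [Prod.fst_mul, Prod.fst_inv, h1, inv_mul_cancel] at e
  have hx1 : x = hOne := hψ.inj _ _ hx (by decide) (e.symm.trans hψ.map_one.symm)
  have hone : ∀ i < 16, mAct hOne i = i := by decide +kernel
  have h2 : ((p : G × Equiv.Perm (Fin 24))⁻¹ * q).2⁻¹ = 1 := by
    refine eq_one_of_fix_sixteen (inv_mem (hperm _ hm)) fun i hi => Fin.ext ?_
    rw [(hact i hi).1, hx1, hone i hi]
  rw [inv_eq_one, Prod.snd_mul, Prod.snd_inv, inv_mul_eq_one] at h2
  exact Subtype.ext (Prod.ext h1 h2)

theorem card_graph_le (hψ : IsFrame t ψ) (hn : n * n = 1)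
    (hb : ∀ r ∈ baseRels 0 2 1, wprod (gl ψ n) r = 1) : Nat.card (graph ψ n) ≤ 244823040 := by
  classical
  let s : ℕ → graph ψ n := fun x =>
    if h : x < 6 then ⟨pr ψ n x, Subgroup.subset_closure ⟨x, h, rfl⟩⟩ else 1
  have hs : ∀ x, s x * s x = 1 := fun x => by
    by_cases h : x < 6
    · refine Subtype.ext ?_
      simp only [s, dif_pos h, pr, Subgroup.coe_mul, Prod.mk_mul_mk, gl_mul_self hψ hn,
        mPerm_mul_self, Subgroup.coe_one, Prod.mk_one_one]
    · simp [s, h]
  have hval : ∀ L : List ℕ, (∀ x ∈ L, x < 6) →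
      ((wprod s L : graph ψ n) : G × Equiv.Perm (Fin 24)) = (wprod (gl ψ n) L, wprod mPerm L) := by
    intro L hL
    rw [← wprod_prod]
    exact map_wprod (graph ψ n).subtype s (fun x => (gl ψ n x, mPerm x)) L fun x hx => by
      simp [s, hL x hx, pr]
  have hR : ∀ r ∈ CertTable.cert.rels, wprod s r = 1 := by
    intro r hr
    have h := List.all_eq_true.1 table_ok r hr
    simp only [Bool.and_eq_true, Bool.or_eq_true, List.any_eq_true, List.all_eq_true,
      decide_eq_true_eq] at h
    obtain ⟨h1, h2, h3⟩ := h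
    refine Subtype.ext ?_
    rw [hval r h3, wprod_mPerm_eq_one h2, Subgroup.coe_one]
    refine Prod.ext ?_ rfl
    rcases h1 with ⟨w, hw, he⟩ | he
    · rw [eq_of_leq _ _ he]; exact derived_one hψ hn hb w hw
    · exact okRel_sound hψ hn hb he
  have hS : ∀ r ∈ CertTable.cert.subs, wprod s r ∈ (pairM ψ).subgroupOf (graph ψ n) := by
    intro r hr
    have hr' : r ∈ (List.range 5).map fun x => [x] := hr
    obtain ⟨x, hx, rfl⟩ := List.mem_map.1 hr'
    have hx := List.mem_range.1 hx
    rw [Subgroup.mem_subgroupOf, hval [x] (by simp; omega)]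
    simpa [wprod] using pair_letters hψ hx
  have hgen : Subgroup.closure (s '' Set.Iio CertTable.table.g) = ⊤ := by
    have e : s '' Set.Iio CertTable.table.g =
        ((↑) : graph ψ n → G × Equiv.Perm (Fin 24)) ⁻¹' (pr ψ n '' Set.Iio 6) := by
      ext ⟨p, hp⟩
      constructor
      · rintro ⟨x, hx, e⟩
        have hx : x < 6 := hx
        exact ⟨x, hx, by rw [← congrArg Subtype.val e]; simp [s, hx]⟩
      · rintro ⟨x, hx, e⟩
        exact ⟨x, hx, Subtype.ext (by simp [s, show x < 6 from hx]; exact e)⟩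
    rw [e]
    exact Subgroup.closure_closure_coe_preimage
  obtain ⟨-, hle⟩ := CertTable.covered.index_le s _ hs hR hS hgen
  rw [← Subgroup.card_mul_index ((pairM ψ).subgroupOf (graph ψ n)),
    Nat.card_congr (Subgroup.subgroupOfEquivOfLe (pairM_le (n := n) hψ)).toEquiv]
  exact (Nat.mul_le_mul (card_pairM_le hψ) hle).trans (le_of_eq rfl)

theorem map_snd_graph : (graph ψ n).map (MonoidHom.snd G (Equiv.Perm (Fin 24))) = mGroup := by
  rw [graph, MonoidHom.map_closure, ← Set.image_comp]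
  rfl

/-- The word of the central involution. -/
def zW : List ℕ := [2, 4, 2, 4, 2, 4]

/-- The words of the representatives. -/
def repW : List (List ℕ) := [[1, 4, 2, 3, 2, 3, 4], [1, 2, 0, 1, 4, 1, 2], [2, 0, 3, 1, 3, 2, 0, 1, 3], [1, 2, 1], [2, 4, 2, 3, 2, 3, 4, 2]]

/-- Words conjugating the central involution to the fused representatives. -/
def conW : List (List ℕ) := [[0, 4, 0, 5, 0, 3, 1, 5], [5], [2, 5, 4, 5], [], [1, 5, 2, 5, 2, 5]]

theorem conj_ok : hFold zW = some hZ ∧ (∀ k < 5, hFold (repW.getD k []) = some (Fus.reps.getD k 0)) ∧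
    ∀ k < 5, k = 3 ∨ (mChk (conW.getD k [] ++ zW ++ (conW.getD k []).reverse ++ (repW.getD k []).reverse) = true ∧
      ∀ x ∈ conW.getD k [], x < 6) := by
  decide +kernel

theorem card_mGroup : Nat.card mGroup = 244823040 := by
  rw [Nat.card_congr mGroupEquiv.toEquiv, CfsgLib.Golay.card_M24]

/-- The projection to the permutations. -/
noncomputable def sndHom (ψ : ℕ → G) (n : G) : graph ψ n →* mGroup :=
  ((MonoidHom.snd G (Equiv.Perm (Fin 24))).comp (graph ψ n).subtype).codRestrict mGroup fun z => by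
    rw [← map_snd_graph (ψ := ψ) (n := n)]
    exact Subgroup.mem_map_of_mem _ z.2

theorem sndHom_bijective (hψ : IsFrame t ψ) (hn : n * n = 1)
    (hb : ∀ r ∈ baseRels 0 2 1, wprod (gl ψ n) r = 1) : Function.Bijective (sndHom ψ n) := by
  have hsurj : Function.Surjective (sndHom ψ n) := by
    rintro ⟨g, hg⟩
    rw [← map_snd_graph (ψ := ψ) (n := n)] at hg
    obtain ⟨z, hz, rfl⟩ := Subgroup.mem_map.1 hg
    exact ⟨⟨z, hz⟩, rfl⟩
  exact (Nat.bijective_iff_surjective_and_card _).2
    ⟨hsurj, le_antisymm (card_mGroup ▸ card_graph_le hψ hn hb) (Nat.card_le_card_of_surjective _ hsurj)⟩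

/-- A relation of the permutations holds in `G`. -/
theorem word_one (hψ : IsFrame t ψ) (hn : n * n = 1)
    (hb : ∀ r ∈ baseRels 0 2 1, wprod (gl ψ n) r = 1) {L : List ℕ} (h : mChk L = true) :
    wprod (gl ψ n) L = 1 := by
  have hL : ∀ x ∈ L, x < 6 := by
    have h' := h
    simp only [mChk, Bool.and_eq_true, List.all_eq_true, decide_eq_true_eq] at h'
    exact h'.1
  have hm : (wprod (gl ψ n) L, wprod mPerm L) ∈ graph ψ n := by
    rw [← wprod_prod]
    exact list_prod_mem fun z hz => by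
      obtain ⟨x, hx, rfl⟩ := List.mem_map.1 hz
      exact Subgroup.subset_closure ⟨x, hL x hx, rfl⟩
  have h1 : sndHom ψ n ⟨_, hm⟩ = sndHom ψ n 1 := by
    rw [map_one]
    exact Subtype.ext (wprod_mPerm_eq_one h)
  exact congrArg (fun z : graph ψ n => (z : G × Equiv.Perm (Fin 24)).1) ((sndHom_bijective hψ hn hb).1 h1)

/-- The fused representatives are conjugate to `t` in the gluing. -/
theorem exists_conj (hψ : IsFrame t ψ) (hn : n * n = 1)
    (hb : ∀ r ∈ baseRels 0 2 1, wprod (gl ψ n) r = 1) {k : ℕ} (hk : k < 5) (h3 : k ≠ 3) :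
    ∃ h ∈ Subgroup.closure (gl ψ n '' Set.Iio 6), h * t * h⁻¹ = ψ (Fus.reps.getD k 0) := by
  obtain ⟨hz, hr, hc⟩ := conj_ok
  obtain ⟨hc, hw⟩ := (hc k hk).resolve_left h3
  refine ⟨wprod (gl ψ n) (conW.getD k []), list_prod_mem fun g hg => ?_, ?_⟩
  · obtain ⟨x, hx, rfl⟩ := List.mem_map.1 hg
    exact Subgroup.subset_closure ⟨x, hw x hx, rfl⟩
  · have e := word_one hψ hn hb hc
    rw [wprod_append, wprod_append, wprod_append, wprod_reverse _ (gl_mul_self hψ hn),
      wprod_reverse _ (gl_mul_self hψ hn), wprod_gl_fold hψ hz, wprod_gl_fold hψ (hr k hk), hψ.map_z,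
      mul_inv_eq_one] at e
    exact e

/-- **The Mathieu pattern**: the six elements generate a copy of `M24`. -/
theorem closure_equiv (ht : orderOf t = 2) (hψ : IsFrame t ψ) (hn : n * n = 1)
    (hb : ∀ r ∈ baseRels 0 2 1, wprod (gl ψ n) r = 1) :
    Nonempty ((Subgroup.closure (gl ψ n '' Set.Iio 6)) ≃* M24) ∧
      Subgroup.centralizer ({t} : Set G) ≤ Subgroup.closure (gl ψ n '' Set.Iio 6) := by
  let e : graph ψ n ≃* M24 :=
    (MulEquiv.ofBijective (sndHom ψ n) (sndHom_bijective hψ hn hb)).trans mGroupEquiv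
  let g : graph ψ n →* G := (MonoidHom.fst G (Equiv.Perm (Fin 24))).comp (graph ψ n).subtype
  have hrange : g.range = Subgroup.closure (gl ψ n '' Set.Iio 6) := by
    rw [MonoidHom.range_comp, Subgroup.range_subtype, graph, MonoidHom.map_closure, ← Set.image_comp]
    rfl
  have hcent : Subgroup.centralizer ({t} : Set G) ≤ Subgroup.closure (gl ψ n '' Set.Iio 6) := by
    intro c hc
    obtain ⟨x, hx, rfl⟩ := (hψ.mem_iff c).1 hc
    obtain ⟨h, hh⟩ := exists_mem_pairH hψ x hx
    have hle : pairH ψ ≤ (Subgroup.closure (gl ψ n '' Set.Iio 6)).comap (MonoidHom.fst G He) := by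
      rw [pairH, Subgroup.closure_le]
      rintro _ ⟨i, rfl⟩
      exact Subgroup.subset_closure ⟨i, Set.mem_Iio.2 (by omega), gl_lt ψ n i.2⟩
    exact hle hh
  refine ⟨⟨?_⟩, hcent⟩
  have hker : g.ker = ⊥ := by
    haveI := CfsgLib.Golay.isSimple_M24
    haveI : IsSimpleGroup (graph ψ n) := e.isSimpleGroup
    refine g.normal_ker.eq_bot_or_eq_top.resolve_right fun h => ?_
    rw [MonoidHom.ker_eq_top_iff] at h
    obtain ⟨a, ha⟩ : t ∈ g.range := by
      rw [hrange]
      exact hcent (Subgroup.mem_centralizer_singleton_iff.2 rfl)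
    rw [h, MonoidHom.one_apply] at ha
    rw [← ha, orderOf_one] at ht
    norm_num at ht
  exact ((MulEquiv.subgroupCongr hrange).symm.trans
    (MonoidHom.ofInjective ((MonoidHom.ker_eq_bot_iff g).1 hker)).symm).trans e

end CfsgLib.InvChar.HeRec.TriM
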